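import Groth.Agent.AGFPoints.Basic
import Mathlib

/-!
Lang's theorem for smooth connected affine groups over finite fields.
-/

set_option autoImplicit false

universe u

noncomputable section

open CategoryTheory MonoidalCategory CartesianMonoidalCategory MonObj GrpObj AlgebraicGeometry
open scoped TensorProduct
open Groth.Agent.AGFPoints.Basic

namespace Groth.Agent.AGFLang

variable {k : Type u} [Field k] {X : Over (Spec (CommRingCat.of k))}
  {B B' B'' : Type u} [CommRing B] [Algebra k B] [CommRing B'] [Algebra k B']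
  [CommRing B''] [Algebra k B'']

theorem ptMap_comp (φ : B →ₐ[k] B') (ψ : B' →ₐ[k] B'') :
    VecGrp.ptMap (ψ.comp φ) = VecGrp.ptMap ψ ≫ VecGrp.ptMap φ := by
  refine Over.OverMorphism.ext ?_
  simp only [VecGrp.ptMap_left, Over.comp_left]
  rw [← Spec.map_comp]
  rfl

theorem ptMap_id : VecGrp.ptMap (AlgHom.id k B) = 𝟙 (VecGrp.pt k B) := by
  refine Over.OverMorphism.ext ?_
  simp only [VecGrp.ptMap_left, Over.id_left]
  exact Spec.map_id _

/-- the point attached to an algebra map -/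
def ofHom [IsAffine X.left] (φ : Coord X →ₐ[k] B) : VecGrp.pt k B ⟶ X := VecGrp.ptMap φ ≫ uPt X

theorem valHom_ofHom [IsAffine X.left] (φ : Coord X →ₐ[k] B) : valHom (ofHom φ) = φ := by
  refine AlgHom.ext fun f => ?_
  rw [valHom_apply, ofHom, val_ptMap]
  exact congrArg φ (val_uPt f)

theorem ofHom_valHom [IsAffine X.left] (t : VecGrp.pt k B ⟶ X) : ofHom (valHom t) = t :=
  (eq_ptMap_uPt t).symm

theorem valHom_ptMap (φ : B →ₐ[k] B') (t : VecGrp.pt k B ⟶ X) :
    valHom (VecGrp.ptMap φ ≫ t) = φ.comp (valHom t) :=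
  AlgHom.ext fun f => val_ptMap φ t f

theorem valHom_inj [IsAffine X.left] {t t' : VecGrp.pt k B ⟶ X} (h : valHom t = valHom t') :
    t = t' := by rw [← ofHom_valHom t, h, ofHom_valHom]

theorem ptMap_ofHom [IsAffine X.left] (φ : B →ₐ[k] B') (ψ : Coord X →ₐ[k] B) :
    VecGrp.ptMap φ ≫ ofHom ψ = ofHom (φ.comp ψ) :=
  valHom_inj (by rw [valHom_ptMap, valHom_ofHom, valHom_ofHom])

variable [Fintype k]

/-- the Frobenius of the points -/
def frobPt (g : VecGrp.pt k B ⟶ X) : VecGrp.pt k B ⟶ X :=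
  VecGrp.ptMap (FiniteField.frobeniusAlgHom k B) ≫ g

theorem comp_frobPt (φ : B →ₐ[k] B') (g : VecGrp.pt k B ⟶ X) :
    VecGrp.ptMap φ ≫ frobPt g = frobPt (VecGrp.ptMap φ ≫ g) := by
  simp only [frobPt, ← Category.assoc, ← ptMap_comp]
  congr 2
  refine AlgHom.ext fun x => ?_
  simp only [AlgHom.comp_apply, FiniteField.coe_frobeniusAlgHom, map_pow]

theorem valHom_frobPt (g : VecGrp.pt k B ⟶ X) (f : Coord X) :
    valHom (frobPt g) f = valHom g f ^ Fintype.card k := by
  rw [frobPt, valHom_ptMap]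
  simp [FiniteField.coe_frobeniusAlgHom]

theorem comp_frobeniusPt (g : VecGrp.pt k B ⟶ X) (I : Ideal B) (hI : I ^ 2 = ⊥)
    (g' : VecGrp.pt k B ⟶ X) [IsAffine X.left]
    (h : VecGrp.ptMap (Ideal.Quotient.mkₐ k I) ≫ g = VecGrp.ptMap (Ideal.Quotient.mkₐ k I) ≫ g') :
    frobPt g = frobPt g' := by
  refine valHom_inj (AlgHom.ext fun f => ?_)
  rw [valHom_frobPt, valHom_frobPt, ← sub_eq_zero]
  have h1 := congr_arg (fun t => valHom t f) h
  simp only [valHom_ptMap, AlgHom.comp_apply, Ideal.Quotient.mkₐ_eq_mk] at h1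
  have h2 : valHom g f - valHom g' f ∈ I := Ideal.Quotient.eq.mp h1
  have h3 := map_sub (FiniteField.frobeniusAlgHom k B) (valHom g f) (valHom g' f)
  simp only [FiniteField.coe_frobeniusAlgHom] at h3
  rw [← h3, ← Ideal.mem_bot, ← hI]
  exact Ideal.pow_le_pow_right Fintype.one_lt_card (Ideal.pow_mem_pow h2 _)

variable {G : Over (Spec (CommRingCat.of k))} [GrpObj G]

theorem frobPt_mul (g h : VecGrp.pt k B ⟶ G) : frobPt (g * h) = frobPt g * frobPt h :=
  MonObj.comp_mul _ g h

theorem frobPt_inv (g : VecGrp.pt k B ⟶ G) : frobPt g⁻¹ = (frobPt g)⁻¹ :=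
  GrpObj.comp_inv _ g

/-- the twisted translate of `y` by `g` -/
def tw (y g : VecGrp.pt k B ⟶ G) : VecGrp.pt k B ⟶ G := g * y * (frobPt g)⁻¹

theorem comp_tw (φ : B →ₐ[k] B') (y g : VecGrp.pt k B ⟶ G) :
    VecGrp.ptMap φ ≫ tw y g = tw (VecGrp.ptMap φ ≫ y) (VecGrp.ptMap φ ≫ g) := by
  rw [tw, tw, MonObj.comp_mul, MonObj.comp_mul, GrpObj.comp_inv, comp_frobPt]

theorem coord_smooth [IsAffine G.left] [Smooth G.hom] : Algebra.Smooth k (Coord G) := by
  have h := (HasRingHomProperty.iff_of_isAffine (P := @Smooth) (f := G.hom)).mp inferInstance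
  have h' := (RingHom.Smooth.propertyIsLocal.respectsIso).2 G.hom.appTop.hom
    (Scheme.ΓSpecIso (CommRingCat.of k)).symm.commRingCatIsoToRingEquiv h
  exact h'

section Open

variable [IsAffine G.left] [Smooth G.hom] {k' : Type u} [Field k'] [Algebra k k']
  [Module.Finite k k'] (y : VecGrp.pt k k' ⟶ G)

/-- the universal twisted translate -/
def univTw : Coord G →ₐ[k] k' ⊗[k] Coord G :=
  valHom (tw (VecGrp.ptMap (Algebra.TensorProduct.includeLeft (S := k)) ≫ y)
    (ofHom (Algebra.TensorProduct.includeRight)))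

theorem comp_univTw (χ : k' ⊗[k] Coord G →ₐ[k] B) :
    χ.comp (univTw y) =
      valHom (tw (VecGrp.ptMap (χ.comp (Algebra.TensorProduct.includeLeft (S := k))) ≫ y)
        (ofHom (χ.comp Algebra.TensorProduct.includeRight))) := by
  rw [univTw, ← valHom_ptMap, comp_tw, ← Category.assoc, ← ptMap_comp, ptMap_ofHom]

/-- the twisted translate is formally etale -/
theorem formallyEtale_univTw :
    letI := (univTw y).toRingHom.toAlgebra
    Algebra.FormallyEtale (Coord G) (k' ⊗[k] Coord G) := by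
  letI := (univTw y).toRingHom.toAlgebra
  have : Algebra.Smooth k (Coord G) := coord_smooth
  have : Algebra.FormallyEtale k k' := Algebra.FormallyEtale.of_isSeparable k k'
  rw [Algebra.FormallyEtale.iff_comp_bijective]
  intro B _ _ I hI
  let _ : Algebra k B := ((algebraMap (Coord G) B).comp (algebraMap k (Coord G))).toAlgebra
  have : IsScalarTower k (Coord G) B := .of_algebraMap_eq' rfl
  have : IsScalarTower k (Coord G) (k' ⊗[k] Coord G) :=
    .of_algebraMap_eq' (univTw y).comp_algebraMap.symm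
  let π := Ideal.Quotient.mkₐ k I
  let x : VecGrp.pt k B ⟶ G := ofHom (IsScalarTower.toAlgHom k (Coord G) B)
  have key : ∀ (χ : k' ⊗[k] Coord G →ₐ[Coord G] B),
      x = tw (VecGrp.ptMap ((χ.restrictScalars k).comp (Algebra.TensorProduct.includeLeft (S := k))) ≫ y)
        (ofHom ((χ.restrictScalars k).comp Algebra.TensorProduct.includeRight)) := by
    intro χ
    refine valHom_inj ?_
    rw [← comp_univTw, valHom_ofHom]
    exact AlgHom.ext fun a => (χ.commutes a).symm
  constructor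
  · intro χ₁ χ₂ h
    have hπ : π.comp (χ₁.restrictScalars k) = π.comp (χ₂.restrictScalars k) :=
      AlgHom.ext fun r => DFunLike.congr_fun h r
    have hc : (χ₁.restrictScalars k).comp (Algebra.TensorProduct.includeLeft (S := k)) =
        (χ₂.restrictScalars k).comp (Algebra.TensorProduct.includeLeft (S := k)) := by
      apply Algebra.FormallyUnramified.comp_injective I hI
      simp only [← AlgHom.comp_assoc]
      exact congrArg (AlgHom.comp · _) hπ
    let g₁ : VecGrp.pt k B ⟶ G := ofHom ((χ₁.restrictScalars k).comp Algebra.TensorProduct.includeRight)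
    let g₂ : VecGrp.pt k B ⟶ G := ofHom ((χ₂.restrictScalars k).comp Algebra.TensorProduct.includeRight)
    have hF : frobPt g₁ = frobPt g₂ := comp_frobeniusPt g₁ I hI g₂ (by
      simp only [g₁, g₂, ptMap_ofHom, ← AlgHom.comp_assoc]
      exact congrArg (fun t : k' ⊗[k] Coord G →ₐ[k] B ⧸ I =>
        ofHom (t.comp Algebra.TensorProduct.includeRight)) hπ)
    have h12 := (key χ₁).symm.trans (key χ₂)
    rw [hc, show ofHom ((χ₁.restrictScalars k).comp Algebra.TensorProduct.includeRight) = g₁ from rfl,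
      show ofHom ((χ₂.restrictScalars k).comp Algebra.TensorProduct.includeRight) = g₂ from rfl,
      tw, tw, hF, mul_right_cancel_iff, mul_right_cancel_iff] at h12
    have h13 : (χ₁.restrictScalars k).comp Algebra.TensorProduct.includeRight =
        (χ₂.restrictScalars k).comp Algebra.TensorProduct.includeRight := by
      rw [← valHom_ofHom ((χ₁.restrictScalars k).comp Algebra.TensorProduct.includeRight),
        ← valHom_ofHom ((χ₂.restrictScalars k).comp Algebra.TensorProduct.includeRight)]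
      exact congrArg valHom h12
    exact AlgHom.restrictScalars_injective k (Algebra.TensorProduct.ext hc h13)
  · intro f
    let fk : k' ⊗[k] Coord G →ₐ[k] B ⧸ I := f.restrictScalars k
    obtain ⟨c, hc⟩ := (Algebra.FormallyEtale.comp_bijective k k' I hI).2
      (fk.comp (Algebra.TensorProduct.includeLeft (S := k)))
    obtain ⟨a, ha⟩ := Algebra.FormallySmooth.comp_surjective k (Coord G) I hI
      (fk.comp Algebra.TensorProduct.includeRight)
    let g₀ : VecGrp.pt k (B ⧸ I) ⟶ G := ofHom (fk.comp Algebra.TensorProduct.includeRight)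
    let g₁ : VecGrp.pt k B ⟶ G := ofHom a
    let yc : VecGrp.pt k B ⟶ G := VecGrp.ptMap c ≫ y
    have hg₁ : VecGrp.ptMap π ≫ g₁ = g₀ := by rw [ptMap_ofHom]; exact congrArg ofHom ha
    let g : VecGrp.pt k B ⟶ G := x * frobPt g₁ * yc⁻¹
    have hx : VecGrp.ptMap π ≫ x = tw (VecGrp.ptMap π ≫ yc) g₀ := by
      refine valHom_inj ?_
      simp only [yc]
      rw [← Category.assoc, ← ptMap_comp, show π.comp c = _ from hc, ← comp_univTw,
        valHom_ptMap, valHom_ofHom]
      exact AlgHom.ext fun r => (f.commutes r).symm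
    have hg : VecGrp.ptMap π ≫ g = g₀ := by
      simp only [g, MonObj.comp_mul, GrpObj.comp_inv, comp_frobPt, hg₁, hx, tw]
      group
    have hF : frobPt g = frobPt g₁ := comp_frobeniusPt g I hI g₁ (hg.trans hg₁.symm)
    let χ : k' ⊗[k] Coord G →ₐ[k] B :=
      Algebra.TensorProduct.lift c (valHom g) fun _ _ => Commute.all _ _
    have hl : χ.comp (Algebra.TensorProduct.includeLeft (S := k)) = c :=
      AlgHom.ext fun a => by simp [χ]
    have hr : χ.comp Algebra.TensorProduct.includeRight = valHom g :=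
      AlgHom.ext fun a => by simp [χ]
    have hA : χ.comp (univTw y) = IsScalarTower.toAlgHom k (Coord G) B := by
      rw [comp_univTw, hl, hr, ofHom_valHom]
      conv_rhs => rw [← valHom_ofHom (IsScalarTower.toAlgHom k (Coord G) B)]
      congr 1
      change g * yc * (frobPt g)⁻¹ = x
      rw [hF]
      simp only [g]
      group
    refine ⟨{ χ.toRingHom with commutes' := fun r => DFunLike.congr_fun hA r }, ?_⟩
    apply AlgHom.restrictScalars_injective k
    refine Algebra.TensorProduct.ext ?_ ?_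
    · refine Eq.trans ?_ (hc : π.comp c = _)
      exact AlgHom.ext fun t => congrArg π (DFunLike.congr_fun hl t)
    · have h5 : π.comp (valHom g) = fk.comp Algebra.TensorProduct.includeRight := by
        rw [← valHom_ptMap, hg, valHom_ofHom]
      refine Eq.trans ?_ h5
      exact AlgHom.ext fun t => congrArg π (DFunLike.congr_fun hr t)

/-- the primes in the twisted orbit of `y` -/
def orbitSet : Set (PrimeSpectrum (Coord G)) :=
  Set.range (PrimeSpectrum.comap (univTw y).toRingHom)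

theorem isOpen_orbitSet : IsOpen (orbitSet y) := by
  letI := (univTw y).toRingHom.toAlgebra
  have : Algebra.Smooth k (Coord G) := coord_smooth
  have : IsScalarTower k (Coord G) (k' ⊗[k] Coord G) :=
    .of_algebraMap_eq' (univTw y).comp_algebraMap.symm
  have : Algebra.FinitePresentation k k' := Algebra.FinitePresentation.of_finiteType.mp inferInstance
  have : Algebra.FinitePresentation k (k' ⊗[k] Coord G) :=
    Algebra.FinitePresentation.trans k k' _
  have : Algebra.FinitePresentation (Coord G) (k' ⊗[k] Coord G) :=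
    .of_restrict_scalars_finitePresentation k _ _
  have : Algebra.FormallyEtale (Coord G) (k' ⊗[k] Coord G) := formallyEtale_univTw y
  have : Algebra.Etale (Coord G) (k' ⊗[k] Coord G) := ⟨inferInstance, inferInstance⟩
  exact PrimeSpectrum.isOpenMap_comap_of_hasGoingDown_of_finitePresentation.isOpen_range

variable {Ω : Type u} [Field Ω] [Algebra k Ω]

theorem kerPrime_mem (c : k' →ₐ[k] Ω) (h : VecGrp.pt k Ω ⟶ G) :
    (⟨RingHom.ker (valHom (tw (VecGrp.ptMap c ≫ y) h)), RingHom.ker_isPrime _⟩ :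
      PrimeSpectrum (Coord G)) ∈ orbitSet y := by
  let χ : k' ⊗[k] Coord G →ₐ[k] Ω :=
    Algebra.TensorProduct.lift c (valHom h) fun _ _ => Commute.all _ _
  refine ⟨⟨RingHom.ker χ, RingHom.ker_isPrime _⟩, PrimeSpectrum.ext ?_⟩
  have h2 : χ.comp (univTw y) = valHom (tw (VecGrp.ptMap c ≫ y) h) := by
    rw [comp_univTw, show χ.comp (Algebra.TensorProduct.includeLeft (S := k)) = c from
        AlgHom.ext fun a => by simp [χ],
      show χ.comp Algebra.TensorProduct.includeRight = valHom h from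
        AlgHom.ext fun a => by simp [χ], ofHom_valHom]
  rw [← h2]
  rfl

theorem exists_of_mem [IsAlgClosed Ω] [Algebra.IsAlgebraic k Ω] {m : Ideal (Coord G)}
    [hm : m.IsMaximal] (h : (⟨m, hm.isPrime⟩ : PrimeSpectrum (Coord G)) ∈ orbitSet y) :
    ∃ (c : k' →ₐ[k] Ω) (g : VecGrp.pt k Ω ⟶ G),
      RingHom.ker (valHom (tw (VecGrp.ptMap c ≫ y) g)) = m := by
  have : Algebra.Smooth k (Coord G) := coord_smooth
  obtain ⟨p, hp⟩ := h
  obtain ⟨M, hM, hpM⟩ := Ideal.exists_le_maximal p.asIdeal p.2.ne_top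
  have : Algebra.FiniteType k (k' ⊗[k] Coord G) :=
    Algebra.FiniteType.trans (S := k') inferInstance inferInstance
  let _ : Field ((k' ⊗[k] Coord G) ⧸ M) := Ideal.Quotient.field M
  have : Module.Finite k ((k' ⊗[k] Coord G) ⧸ M) :=
    finite_of_finite_type_of_isJacobsonRing k _
  let χ : k' ⊗[k] Coord G →ₐ[k] Ω :=
    (IsAlgClosed.lift : ((k' ⊗[k] Coord G) ⧸ M) →ₐ[k] Ω).comp (Ideal.Quotient.mkₐ k M)
  refine ⟨χ.comp (Algebra.TensorProduct.includeLeft (S := k)),
    ofHom (χ.comp Algebra.TensorProduct.includeRight), ?_⟩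
  rw [← comp_univTw]
  refine (hm.eq_of_le (RingHom.ker_ne_top _) fun a ha => ?_).symm
  have ha' : univTw y a ∈ M := hpM ((congrArg PrimeSpectrum.asIdeal hp).ge ha)
  show χ (univTw y a) = 0
  simp [χ, Ideal.Quotient.eq_zero_iff_mem.mpr ha']

end Open

section Lang

variable {Ω : Type u} [Field Ω] [Algebra k Ω] [IsAlgClosed Ω] [Algebra.IsAlgebraic k Ω]

/-- algebraic points with the same kernel differ by an automorphism -/
theorem exists_autom {A : Type u} [CommRing A] [Algebra k A] (φ ψ : A →ₐ[k] Ω)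
    (h : RingHom.ker φ = RingHom.ker ψ) : ∃ τ : Ω →ₐ[k] Ω, τ.comp φ = ψ := by
  let e₁ : (A ⧸ RingHom.ker φ) →ₐ[k] Ω :=
    Ideal.Quotient.liftₐ _ φ fun a ha => ha
  let e₂ : (A ⧸ RingHom.ker φ) →ₐ[k] Ω :=
    Ideal.Quotient.liftₐ _ ψ fun a ha => by rw [h] at ha; exact ha
  have he₁ : Function.Injective e₁ := by
    rw [injective_iff_map_eq_zero]
    intro z hz
    obtain ⟨a, rfl⟩ := Ideal.Quotient.mk_surjective z
    exact Ideal.Quotient.eq_zero_iff_mem.mpr hz
  have : IsAlgClosure k Ω := ⟨inferInstance, inferInstance⟩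
  have : Normal k Ω := IsAlgClosure.normal k Ω
  let K₁ : IntermediateField k Ω := e₁.range.toIntermediateField fun x hx =>
    e₁.range.inv_mem_of_algebraic (x := ⟨x, hx⟩) (Algebra.IsAlgebraic.isAlgebraic x)
  let ε : (A ⧸ RingHom.ker φ) ≃ₐ[k] K₁ := AlgEquiv.ofInjective e₁ he₁
  let θ : K₁ →ₐ[k] Ω := e₂.comp ε.symm.toAlgHom
  refine ⟨θ.liftNormal Ω, AlgHom.ext fun a => ?_⟩
  have h1 := θ.liftNormal_commutes Ω (ε (Ideal.Quotient.mk _ a))
  refine h1.trans ?_
  show e₂ (ε.symm (ε (Ideal.Quotient.mk _ a))) = ψ a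
  rw [AlgEquiv.symm_apply_apply]
  rfl

theorem ptMap_twOne (τ : Ω →ₐ[k] Ω) (g : VecGrp.pt k Ω ⟶ G) :
    VecGrp.ptMap τ ≫ tw 1 g = tw 1 (VecGrp.ptMap τ ≫ g) := by
  rw [comp_tw, MonObj.comp_one]

variable [IsAffine G.left] [Smooth G.hom]

variable (G Ω) in
theorem univ_orbitSet [PreconnectedSpace (PrimeSpectrum (Coord G))] :
    orbitSet (k' := k) (1 : VecGrp.pt k k ⟶ G) = Set.univ ∧
      ∀ z : VecGrp.pt k Ω ⟶ G, ∃ g, tw 1 g = z := by
  have : Algebra.Smooth k (Coord G) := coord_smooth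
  have : IsJacobsonRing (Coord G) := isJacobsonRing_of_finiteType (A := k)
  let U := orbitSet (k' := k) (1 : VecGrp.pt k k ⟶ G)
  have hU : IsOpen U := isOpen_orbitSet _
  let P : (VecGrp.pt k Ω ⟶ G) → Prop := fun z => ∃ g, tw 1 g = z
  have hP : ∀ z, (⟨RingHom.ker (valHom z), RingHom.ker_isPrime _⟩ : PrimeSpectrum (Coord G)) ∈ U →
      (RingHom.ker (valHom z)).IsMaximal → P z := by
    intro z hz hmax
    obtain ⟨c, g, hg⟩ := exists_of_mem (Ω := Ω) _ (hm := hmax) hz
    rw [MonObj.comp_one] at hg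
    obtain ⟨τ, hτ⟩ := exists_autom _ _ hg
    exact ⟨VecGrp.ptMap τ ≫ g, valHom_inj (by rw [← ptMap_twOne, valHom_ptMap, hτ])⟩
  have hmax : ∀ z : VecGrp.pt k Ω ⟶ G, (RingHom.ker (valHom z)).IsMaximal := fun z => by
    have hf : IsField (valHom z).range := by
      refine ⟨⟨0, 1, zero_ne_one⟩, mul_comm, fun {x} hx => ?_⟩
      refine ⟨⟨(x : Ω)⁻¹, (valHom z).range.inv_mem_of_algebraic
        (Algebra.IsAlgebraic.isAlgebraic (x : Ω))⟩, Subtype.ext ?_⟩
      exact mul_inv_cancel₀ fun h => hx (Subtype.ext h)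
    exact Ideal.Quotient.maximal_of_isField _
      (MulEquiv.isField hf (Ideal.quotientKerEquivRange (valHom z)).toMulEquiv)
  have hUniv : U = Set.univ := by
    let W := ⋃ (m : Ideal (Coord G)) (hm : m.IsMaximal) (_ : ⟨m, hm.isPrime⟩ ∉ U),
      letI := Ideal.Quotient.field m
      haveI : Module.Finite k (Coord G ⧸ m) := finite_of_finite_type_of_isJacobsonRing k _
      orbitSet (ofHom (Ideal.Quotient.mkₐ k m) : VecGrp.pt k (Coord G ⧸ m) ⟶ G)
    have hW : IsOpen W := isOpen_iUnion fun m => isOpen_iUnion fun hm => isOpen_iUnion fun _ =>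
      letI := Ideal.Quotient.field m
      haveI : Module.Finite k (Coord G ⧸ m) := finite_of_finite_type_of_isJacobsonRing k _
      isOpen_orbitSet _
    have hcl : ∀ S : Set (PrimeSpectrum (Coord G)), IsOpen S →
        (∀ m : Ideal (Coord G), ∀ hm : m.IsMaximal, (⟨m, hm.isPrime⟩ : PrimeSpectrum (Coord G)) ∈ S) →
        S = Set.univ := by
      intro S hS h
      refine Set.eq_univ_of_forall fun p => ?_
      obtain ⟨m, hm, hpm⟩ := Ideal.exists_le_maximal p.asIdeal p.2.ne_top
      exact ((PrimeSpectrum.le_iff_specializes p ⟨m, hm.isPrime⟩).mp hpm).mem_open hS (h m hm)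
    have hcover : W ∪ U = Set.univ := by
      refine hcl _ (hW.union hU) fun m hm => ?_
      by_cases h : (⟨m, hm.isPrime⟩ : PrimeSpectrum (Coord G)) ∈ U
      · exact Or.inr h
      · refine Or.inl (Set.mem_iUnion₂.mpr ⟨m, hm, Set.mem_iUnion.mpr ⟨h, ?_⟩⟩)
        letI := Ideal.Quotient.field m
        haveI : Module.Finite k (Coord G ⧸ m) := finite_of_finite_type_of_isJacobsonRing k _
        let c : (Coord G ⧸ m) →ₐ[k] Ω := IsAlgClosed.lift
        convert kerPrime_mem (ofHom (Ideal.Quotient.mkₐ k m) : VecGrp.pt k (Coord G ⧸ m) ⟶ G) c 1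
        rw [tw, ptMap_ofHom, _root_.one_mul, show frobPt (1 : VecGrp.pt k Ω ⟶ G) = 1 from MonObj.comp_one _,
          inv_one, _root_.mul_one, valHom_ofHom]
        exact (RingHom.ker_comp_of_injective _ c.toRingHom.injective).trans Ideal.mk_ker |>.symm
    have hdisj : W ∩ U = ∅ := by
      by_contra hne
      obtain ⟨p, hp⟩ := Set.nonempty_iff_ne_empty.mpr hne
      obtain ⟨z, hzWU, hz⟩ := PrimeSpectrum.exists_isClosed_singleton_of_isJacobsonRing
        (W ∩ U) (hW.inter hU) ⟨p, hp⟩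
      obtain ⟨hzW, hzU⟩ := hzWU
      obtain ⟨m, hm, hzW⟩ := Set.mem_iUnion₂.mp hzW
      obtain ⟨hmU, hzW⟩ := Set.mem_iUnion.mp hzW
      letI := Ideal.Quotient.field m
      haveI : Module.Finite k (Coord G ⧸ m) := finite_of_finite_type_of_isJacobsonRing k _
      have hzmax : z.asIdeal.IsMaximal :=
        (PrimeSpectrum.isClosed_singleton_iff_isMaximal z).mp hz
      obtain ⟨c, g, hg⟩ := exists_of_mem (Ω := Ω) _ (hm := hzmax) hzW
      obtain ⟨c₁, g₁, hg₁⟩ := exists_of_mem (Ω := Ω) _ (hm := hzmax) hzU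
      rw [MonObj.comp_one] at hg₁
      obtain ⟨τ, hτ⟩ := exists_autom _ _ (hg₁.trans hg.symm)
      rw [← valHom_ptMap, ptMap_twOne] at hτ
      have hy := valHom_inj hτ
      set y' := VecGrp.ptMap c ≫ (ofHom (Ideal.Quotient.mkₐ k m) : VecGrp.pt k (Coord G ⧸ m) ⟶ G)
        with hy'
      set g' := VecGrp.ptMap τ ≫ g₁
      have : tw 1 (g⁻¹ * g') = y' := by
        simp only [tw, frobPt_mul, frobPt_inv] at hy ⊢
        rw [show y' = g⁻¹ * (g * y' * (frobPt g)⁻¹) * frobPt g by group, ← hy]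
        group
      apply hmU
      convert kerPrime_mem (k' := k) (1 : VecGrp.pt k k ⟶ G) (Algebra.ofId k Ω) (g⁻¹ * g')
      rw [MonObj.comp_one, this, hy', ptMap_ofHom, valHom_ofHom]
      exact (RingHom.ker_comp_of_injective _ c.toRingHom.injective).trans Ideal.mk_ker |>.symm
    have hclopen : IsClopen U := by
      refine ⟨?_, hU⟩
      have : Uᶜ = W := by
        ext p
        have h1 : p ∈ W ∪ U := hcover ▸ Set.mem_univ p
        have h2 : p ∉ W ∩ U := hdisj ▸ Set.notMem_empty p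
        simp only [Set.mem_union, Set.mem_inter_iff, Set.mem_compl_iff] at h1 h2 ⊢
        tauto
      rw [← isOpen_compl_iff, this]
      exact hW
    refine hclopen.eq_univ ⟨_, kerPrime_mem (k' := k) (1 : VecGrp.pt k k ⟶ G) (Algebra.ofId k Ω) 1⟩
  exact ⟨hUniv, fun z => hP z (hUniv ▸ Set.mem_univ _) (hmax z)⟩

end Lang

end Groth.Agent.AGFLang
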